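import Cfsg.Agent.H58.McLOdd
import Cfsg.Agent.H669.RO.McL
import Cfsg.Agent.H805.NilMcL
import Cfsg.Agent.H1.J2Cover
import Cfsg.Agent.Lib.ListFast
import Cfsg.Agent.FastGrp
import Cfsg.Agent.Prune
set_option linter.all false
prune_inst 0x7f00000000000000000000000000000000000000000000000000000000000000000000000000000000000000000000000000000000000000000000000000000000000000000000000000000000000000003fffffffffffffffffffffffffffbeffbdffffffff
open scoped Cfsg.Agent.FastGrp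

-- part: H686/Odd/McLWords
section
/-!
# The row of `McL`, `p` odd: the elements of order five (helper686)

* `a`, `b`, `c = [a, b]` : a Sylow 5-subgroup; `s` of order 6 commuting with `c`; `n` of order 8 normalizing;
* `card_c_le` : `|C(c)| ≤ 1500` (adjacency patterns).
-/

set_option autoImplicit false
set_option maxRecDepth 100000

namespace Cfsg.Agent.H686.Odd.McL

open Subgroup Equiv Cfsg.Agent.SporadicStructure.PermChain Cfsg.Agent.SporadicA.PermTab Cfsg.Agent.H904.CentChk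
  Cfsg.Agent.H904.McLCent Cfsg.Agent.McLType.X275 Cfsg.Agent.McLType.Gens Cfsg.Agent.McLType.Model Cfsg.Agent.H58.McLOdd
open scoped commutatorElement

universe u

section Two

variable {T : Type u} [Group T] [Finite T] {n : ℕ} {ψ : T →* Perm (Fin n)} {R : ℕ → ℕ → ℕ} {x : T} {tb : ℕ → ℕ}

/-- **the bound with two points** -/
theorem card_cent_le2 (_S : Sys ψ R x tb) (iv iv' : ℕ → ℕ)
    (hiv : ∀ g : T, g * x = x * g → ∀ i : Fin n, iv (ψ g i : Fin n) = iv i) (b v : Fin n) {m m' : ℕ}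
    (hc : ((List.range n).filter fun b' => Nat.beq (iv b') (iv b)).length ≤ m)
    (hiv' : ∀ g : T, g * x = x * g → ψ g b = b → ∀ i : Fin n, iv' (ψ g i : Fin n) = iv' i)
    (hc' : ((List.range n).filter fun b' => Nat.beq (iv' b') (iv' v)).length ≤ m')
    (h1 : ∀ g : T, g * x = x * g → ψ g b = b → ψ g v = v → g = 1) :
    Nat.card ↥(centralizer ({x} : Set T)) ≤ m' * m := by
  classical
  have hft : Fintype ↥(centralizer ({x} : Set T)) := Fintype.ofFinite _
  let f : ↥(centralizer ({x} : Set T)) → ℕ := fun g => ((ψ g.1 b : Fin n) : ℕ)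
  let L := (List.range n).filter fun b' => Nat.beq (iv b') (iv b)
  let L' := (List.range n).filter fun b' => Nat.beq (iv' b') (iv' v)
  have himg : (Finset.univ.image f).card ≤ m := by
    refine le_trans (Finset.card_le_card (t := L.toFinset) ?_) ((List.toFinset_card_le L).trans hc)
    intro i hi
    obtain ⟨g, -, rfl⟩ := Finset.mem_image.1 hi
    rw [List.mem_toFinset]
    refine List.mem_filter.2 ⟨List.mem_range.2 (ψ g.1 b).2, ?_⟩
    change Nat.beq (iv (ψ g.1 b : Fin n)) (iv b) = true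
    rw [hiv _ (mem_centralizer_singleton_iff.1 g.2) b]
    exact Nat.beq_refl _
  rw [Nat.card_eq_fintype_card, ← Finset.card_univ]
  refine (Finset.card_le_mul_card_image (f := f) Finset.univ m' ?_).trans (Nat.mul_le_mul_left _ himg)
  intro i hi
  obtain ⟨g0, -, rfl⟩ := Finset.mem_image.1 hi
  have hg0 := mem_centralizer_singleton_iff.1 g0.2
  -- the fibre over `g0 b`
  let f' : ↥(centralizer ({x} : Set T)) → ℕ := fun g => ((ψ (g0⁻¹ * g : ↥(centralizer ({x} : Set T))).1 v : Fin n) : ℕ)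
  have hfix : ∀ g ∈ Finset.univ.filter (fun g => f g = f g0), ψ (g0⁻¹ * g : ↥(centralizer ({x} : Set T))).1 b = b := by
    intro g hg
    have h2 : ψ g.1 b = ψ g0.1 b := Fin.ext (Finset.mem_filter.1 hg).2
    have : ((g0⁻¹ * g : ↥(centralizer ({x} : Set T))) : T) = (g0 : T)⁻¹ * (g : T) := rfl
    rw [this, map_mul, Perm.mul_apply, h2, map_inv]
    simp
  have h3 : ((Finset.univ.filter (fun g => f g = f g0)).image f').card ≤ m' := by
    refine le_trans (Finset.card_le_card (t := L'.toFinset) ?_) ((List.toFinset_card_le L').trans hc')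
    intro i hi
    obtain ⟨g, hg, rfl⟩ := Finset.mem_image.1 hi
    rw [List.mem_toFinset]
    refine List.mem_filter.2 ⟨List.mem_range.2 (ψ _ v).2, ?_⟩
    change Nat.beq (iv' (ψ (g0⁻¹ * g : ↥(centralizer ({x} : Set T))).1 v : Fin n)) (iv' v) = true
    rw [hiv' _ (mem_centralizer_singleton_iff.1 (g0⁻¹ * g).2) (hfix g hg) v]
    exact Nat.beq_refl _
  rw [← Finset.card_image_of_injOn (f := f') ?_]
  · exact h3
  · intro g hg h hh hgh
    have e1 := hfix g hg
    have e2 := hfix h hh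
    have e3 : ψ (g0⁻¹ * g : ↥(centralizer ({x} : Set T))).1 v = ψ (g0⁻¹ * h : ↥(centralizer ({x} : Set T))).1 v := Fin.ext hgh
    have e4 : g0⁻¹ * g = (g0⁻¹ * h) * (g⁻¹ * h)⁻¹ := by group
    have h4 := mem_centralizer_singleton_iff.1 ((g0⁻¹ * g)⁻¹ * (g0⁻¹ * h)).2
    have h5 : ((g0⁻¹ * g)⁻¹ * (g0⁻¹ * h) : ↥(centralizer ({x} : Set T))).1 = 1 := by
      have e5 : (((g0⁻¹ * g)⁻¹ * (g0⁻¹ * h) : ↥(centralizer ({x} : Set T))) : T) =
        ((g0⁻¹ * g : ↥(centralizer ({x} : Set T))) : T)⁻¹ * ((g0⁻¹ * h : ↥(centralizer ({x} : Set T))) : T) := rfl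
      apply h1 _ h4
      · rw [e5, map_mul, Perm.mul_apply, e2, map_inv, Perm.inv_eq_iff_eq]
        exact e1.symm
      · rw [e5, map_mul, Perm.mul_apply, ← e3, map_inv, Perm.inv_eq_iff_eq]
    have h6 : (g0⁻¹ * g)⁻¹ * (g0⁻¹ * h) = 1 := Subtype.ext h5
    have h7 : g⁻¹ * h = 1 := by rw [← h6]; group
    exact inv_mul_eq_one.1 h7

end Two

/-- the table of `c` -/
def tc : ℕ := 0x403e0a7124374690a400c280458941f40881d0470282fc5185c2161504801d1ac344380c21b84083701c0540b4818a91761587902709c1d87a0851b21182908318c02c6d05b0a623c018120c40dc078351dc128358841e62f0098a10ca15c3410e03206c0d0770ba124768db1922c01a00103c19c830050221b40385f02c168600790f618c3d0320462f8179081262981c8d50702b44b08608826c0b83e1301005402109a234208c71ea3a82c01501c0fc4704800407c6c0ba11021c4a80c162010218de20a3a08810a1cc38c7b8420ea1548205916a0804c90113c2a8848eb1d22dc7e10f04c3c0410d01942683986a1c02e4860fb1de0cc2789108a39c890ce112270450ab14430c560ff13e0ec6f87d0de0c41705e010304590240d20f4598cf0580ac180501f2034320001963e03307f1fa0d8301110e41f81486c1003b0628781a6274868741e23886b8a52000284604b15c394708cc19a25c288af0121305c02816c3f87207117a3d8838b41880f01286103035064081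

/-- a word of order 6 commuting with `c` -/
def s6 : List ℕ := [3, 6, 3, 5, 4, 6, 2, 5, 6, 0, 5]
/-- a word of order 8 normalizing `⟨a, b⟩` -/
def n8 : List ℕ := [1, 6, 1, 3, 6, 5, 4, 2, 0, 5, 3, 6]

private noncomputable def _root_.Cfsg.Agent.LsF.fc2ed2a_1 : {f // @Cfsg.Agent.SporadicStructure.PermChain.look = f} := ⟨_, by first | (delta Cfsg.Agent.SporadicStructure.PermChain.look; rewrite [Cfsg.Agent.LsF.nmul_pat, Cfsg.Agent.LsF.nmod_pat, Cfsg.Agent.LsF.npow_pat, Cfsg.Agent.LsF.nshr_pat]; exact rfl) | exact rfl⟩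
private noncomputable def _root_.Cfsg.Agent.LsF.fc2ed2a_2 : {f // @Cfsg.Agent.H58.McLOdd.st = f} := ⟨_, by first | (delta Cfsg.Agent.H58.McLOdd.st; rewrite [Cfsg.Agent.LsF.fc2ed2a_1.2, Cfsg.Agent.LsF.nmod_pat, Cfsg.Agent.LsF.getD_eq]; exact rfl) | exact rfl⟩
private noncomputable def _root_.Cfsg.Agent.LsF.fc2ed2a_3 : {f // @Cfsg.Agent.H58.McLOdd.app = f} := ⟨_, by first | (delta Cfsg.Agent.H58.McLOdd.app; rewrite [Cfsg.Agent.LsF.fc2ed2a_2.2]; exact rfl) | exact rfl⟩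
private noncomputable def _root_.Cfsg.Agent.LsF.fc2ed2a_6 : {f // @Cfsg.Agent.H58.McLOdd.iv = f} := ⟨_, by first | (delta Cfsg.Agent.H58.McLOdd.iv; rewrite [Cfsg.Agent.LsF.reverse_eq]; exact rfl) | exact rfl⟩
private noncomputable def _root_.Cfsg.Agent.LsF.fc2ed2a_7 : {f // @Cfsg.Agent.H58.McLOdd.cm = f} := ⟨_, by first | (delta Cfsg.Agent.H58.McLOdd.cm; rewrite [Cfsg.Agent.LsF.fc2ed2a_6.2, Cfsg.Agent.LsF.lappend_pat]; exact rfl) | exact rfl⟩
theorem cA : (_root_.Cfsg.Agent.H58.McLOdd.chk (pw x5 5) [] && _root_.Cfsg.Agent.H58.McLOdd.chk (pw y5 5) [] && _root_.Cfsg.Agent.H58.McLOdd.chk (cm x5 y5 ++ x5) (x5 ++ cm x5 y5) &&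
    _root_.Cfsg.Agent.H58.McLOdd.chk (cm x5 y5 ++ y5) (y5 ++ cm x5 y5) && !(Nat.beq (app (cm x5 y5) 0) (app [] 0))) = true := by
  rewrite [_root_.Cfsg.Agent.H58.McLOdd.chk_base5]; decide +kernel

theorem cB : (_root_.Cfsg.Agent.H58.McLOdd.chk (pw s6 6) [] && _root_.Cfsg.Agent.H58.McLOdd.chk (s6 ++ cm x5 y5) (cm x5 y5 ++ s6) && !(Nat.beq (app (pw s6 2) 0) (app [] 0)) &&
    !(Nat.beq (app (pw s6 3) 0) (app [] 0))) = true := by
  rewrite [_root_.Cfsg.Agent.H58.McLOdd.chk_base5]; decide +kernel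

theorem cC : (_root_.Cfsg.Agent.H58.McLOdd.chk (pw n8 8) [] && _root_.Cfsg.Agent.H58.McLOdd.chk (cj n8 x5) (pw x5 3 ++ (y5 ++ pw (cm x5 y5) 3)) &&
    _root_.Cfsg.Agent.H58.McLOdd.chk (cj n8 y5) (pw x5 4 ++ (pw y5 2 ++ cm x5 y5)) && !(Nat.beq (app (pw n8 4) 1) (app [] 1))) = true := by
  rewrite [_root_.Cfsg.Agent.H58.McLOdd.chk_base5]; decide +kernel

theorem cD : (_root_.Cfsg.Agent.H58.McLOdd.chk (pw (cm x5 y5) 5) []) = true := by
  rewrite [_root_.Cfsg.Agent.H58.McLOdd.chk_base5]; decide +kernel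

/-- a fixed point of `a ^ i * b ^ j`, `k = 5 i + j` -/
def fp : List ℕ := [0, 28, 28, 28, 28, 0, 41, 14, 12, 7, 0, 85, 49, 27, 21, 0, 31, 17, 48, 79, 0, 51, 4, 87, 46]

theorem cE : ∀ i j : Fin 5, (i = 0 ∧ j = 0) ∨ ((fp.getD (5 * i + j) 0 < 275) ∧
    app (pw x5 i ++ pw y5 j) (fp.getD (5 * i + j) 0) = fp.getD (5 * i + j) 0) := by
  decide +kernel

theorem tc_eq : ∀ i : Fin 275, app (cm x5 y5) i = lk tc i := by (refine of_decide_eq_true ?_; (try (rewrite [Cfsg.Agent.LsF.fc2ed2a_3.2, Cfsg.Agent.LsF.fc2ed2a_7.2, Cfsg.Agent.LsF.instDecEq_eq, Cfsg.Agent.LsF.dForallFin_eq, Cfsg.Agent.LsF.decide_eq])); decide +kernel)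

/-- generator -/
noncomputable def a : G1 := wd x5
/-- generator -/
noncomputable def b : G1 := wd y5
/-- the commutator -/
noncomputable def c : G1 := ⁅a, b⁆
/-- of order 6 -/
noncomputable def s : G1 := wd s6
/-- of order 8 -/
noncomputable def n : G1 := wd n8

theorem c_eq : c = wd (cm x5 y5) := (wd_cm x5 y5).symm

theorem a_pow : a ^ 5 = 1 := by
  have h := cA
  simp only [Bool.and_eq_true, Bool.not_eq_true'] at h
  rw [a, ← wd_pw]; exact eq_of_chk h.1.1.1.1

theorem b_pow : b ^ 5 = 1 := by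
  have h := cA
  simp only [Bool.and_eq_true, Bool.not_eq_true'] at h
  rw [b, ← wd_pw]; exact eq_of_chk h.1.1.1.2

theorem ca : c * a = a * c := by
  have h := cA
  simp only [Bool.and_eq_true, Bool.not_eq_true'] at h
  rw [c_eq, a, ← wd_app, ← wd_app]; exact eq_of_chk h.1.1.2

theorem cb : c * b = b * c := by
  have h := cA
  simp only [Bool.and_eq_true, Bool.not_eq_true'] at h
  rw [c_eq, b, ← wd_app, ← wd_app]; exact eq_of_chk h.1.2

theorem c_ne : c ≠ 1 := by
  have h := cA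
  simp only [Bool.and_eq_true, Bool.not_eq_true'] at h
  rw [c_eq, ← wd_nil']; exact ne_of_pt (by norm_num) h.2

theorem c_pow : c ^ 5 = 1 := by
  rw [c_eq, ← wd_pw]; exact eq_of_chk cD

theorem s_pow : s ^ 6 = 1 := by
  have h := cB
  simp only [Bool.and_eq_true, Bool.not_eq_true'] at h
  rw [s, ← wd_pw]; exact eq_of_chk h.1.1.1

theorem sc : s * c = c * s := by
  have h := cB
  simp only [Bool.and_eq_true, Bool.not_eq_true'] at h
  rw [c_eq, s, ← wd_app, ← wd_app]; exact eq_of_chk h.1.1.2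

theorem s2_ne : s ^ 2 ≠ 1 := by
  have h := cB
  simp only [Bool.and_eq_true, Bool.not_eq_true'] at h
  rw [s, ← wd_pw, ← wd_nil']; exact ne_of_pt (by norm_num) h.1.2

theorem s3_ne : s ^ 3 ≠ 1 := by
  have h := cB
  simp only [Bool.and_eq_true, Bool.not_eq_true'] at h
  rw [s, ← wd_pw, ← wd_nil']; exact ne_of_pt (by norm_num) h.2

theorem n_pow : n ^ 8 = 1 := by
  have h := cC
  simp only [Bool.and_eq_true, Bool.not_eq_true'] at h
  rw [n, ← wd_pw]; exact eq_of_chk h.1.1.1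

theorem na : n * a * n⁻¹ = a ^ 3 * (b * c ^ 3) := by
  have h := cC
  simp only [Bool.and_eq_true, Bool.not_eq_true'] at h
  have h1 := eq_of_chk h.1.1.2
  rw [wd_cj, wd_app, wd_app, wd_pw, wd_pw, ← c_eq] at h1
  exact h1

theorem nb : n * b * n⁻¹ = a ^ 4 * (b ^ 2 * c) := by
  have h := cC
  simp only [Bool.and_eq_true, Bool.not_eq_true'] at h
  have h1 := eq_of_chk h.1.2
  rw [wd_cj, wd_app, wd_app, wd_pw, wd_pw, ← c_eq] at h1
  exact h1

theorem n4_ne : n ^ 4 ≠ 1 := by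
  have h := cC
  simp only [Bool.and_eq_true, Bool.not_eq_true'] at h
  rw [n, ← wd_pw, ← wd_nil']; exact ne_of_pt (by norm_num) h.2

/-- the noncentral products have fixed points -/
theorem exists_fix {i j : ℕ} (hi : i < 5) (hj : j < 5) (h : ¬ (i = 0 ∧ j = 0)) :
    ∃ k : Fin 275, ψ (a ^ i * b ^ j) k = k := by
  rcases cE ⟨i, hi⟩ ⟨j, hj⟩ with h1 | ⟨h1, h2⟩
  · exact absurd ⟨congrArg Fin.val h1.1, congrArg Fin.val h1.2⟩ h
  · refine ⟨⟨_, h1⟩, Fin.ext ?_⟩
    rw [a, b, ← wd_pw, ← wd_pw, ← wd_app, app_spec]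
    exact h2

theorem rep : _root_.Cfsg.Agent.H904.McLCent.Rep G1 ψ := ⟨ψ_injective, range_ψ⟩

theorem sys : Sys ψ (bitM 275 adjM) c (lk tc) := rep.sys (fun i => by rw [c_eq, app_spec]; exact tc_eq i)

/-! ### the bound of `|C(c)|` -/

theorem u1 : ((List.range 275).filter fun b' => Nat.beq (code (bitM 275 adjM) (lk tc) [] 5 b')
    (code (bitM 275 adjM) (lk tc) [] 5 2)).length ≤ 125 := by decide +kernel

private noncomputable def _root_.Cfsg.Agent.LsF.fc2ed2a_9 : {f // @Cfsg.Agent.H904.CentChk.cyc = f} := ⟨_, by first | (delta Cfsg.Agent.H904.CentChk.cyc Cfsg.Agent.H904.CentChk.cyc._f Nat.brecOn.go Nat.brecOn; (try delta Cfsg.Agent.H904.CentChk.cyc.match_1); (try delta Nat.casesOn); first | dsimp -zeta only | exact rfl) | exact rfl⟩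
private noncomputable def _root_.Cfsg.Agent.LsF.fc2ed2a_10 : {f // @Cfsg.Agent.H904.CentChk.code = f} := ⟨_, by first | (delta Cfsg.Agent.H904.CentChk.code; rewrite [Cfsg.Agent.LsF.fc2ed2a_9.2, Cfsg.Agent.LsF.nadd_pat, Cfsg.Agent.LsF.nmul_pat, Cfsg.Agent.LsF.lappend_pat, Cfsg.Agent.LsF.foldl_eq]; exact rfl) | exact rfl⟩
theorem u2 : ((List.range 275).filter fun b' => Nat.beq (code (bitM 275 adjM) (lk tc) (cyc (lk tc) 5 2) 5 b')
    (code (bitM 275 adjM) (lk tc) (cyc (lk tc) 5 2) 5 38)).length ≤ 12 := by (refine of_decide_eq_true ?_; (try (rewrite [Cfsg.Agent.LsF.fc2ed2a_10.2, Cfsg.Agent.LsF.fc2ed2a_9.2, Cfsg.Agent.LsF.decLe_eq, Cfsg.Agent.LsF.filter_eq, Cfsg.Agent.LsF.range_eq, Cfsg.Agent.LsF.length_eq, Cfsg.Agent.LsF.decide_eq])); decide +kernel)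

/-- the points -/
def F2 : List ℕ := cyc (lk tc) 5 2 ++ cyc (lk tc) 5 38
/-- the points -/
def F3 : List ℕ := F2 ++ cyc (lk tc) 5 1
/-- the points -/
def F4 : List ℕ := F3 ++ cyc (lk tc) 5 0

private noncomputable def _root_.Cfsg.Agent.LsF.fc2ed2a_11 : {f // @Cfsg.Agent.H686.Odd.McL.F2 = f} := ⟨_, by first | (delta Cfsg.Agent.H686.Odd.McL.F2; rewrite [Cfsg.Agent.LsF.fc2ed2a_9.2, Cfsg.Agent.LsF.lappend_pat]; exact rfl) | exact rfl⟩
theorem u3 : ((List.range 275).all fun v => Nat.beq v 1 || !Nat.beq (code (bitM 275 adjM) (lk tc) F2 5 v)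
    (code (bitM 275 adjM) (lk tc) F2 5 1)) = true := by ((try (rewrite [Cfsg.Agent.LsF.fc2ed2a_10.2, Cfsg.Agent.LsF.fc2ed2a_11.2, Cfsg.Agent.LsF.or_eq, Cfsg.Agent.LsF.not_eq, Cfsg.Agent.LsF.all_eq, Cfsg.Agent.LsF.range_eq])); decide +kernel)

private noncomputable def _root_.Cfsg.Agent.LsF.fc2ed2a_12 : {f // @Cfsg.Agent.H686.Odd.McL.F3 = f} := ⟨_, by first | (delta Cfsg.Agent.H686.Odd.McL.F3; rewrite [Cfsg.Agent.LsF.fc2ed2a_11.2, Cfsg.Agent.LsF.fc2ed2a_9.2, Cfsg.Agent.LsF.lappend_pat]; exact rfl) | exact rfl⟩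
theorem u4 : ((List.range 275).all fun v => Nat.beq v 0 || !Nat.beq (code (bitM 275 adjM) (lk tc) F3 5 v)
    (code (bitM 275 adjM) (lk tc) F3 5 0)) = true := by ((try (rewrite [Cfsg.Agent.LsF.fc2ed2a_10.2, Cfsg.Agent.LsF.fc2ed2a_12.2, Cfsg.Agent.LsF.or_eq, Cfsg.Agent.LsF.not_eq, Cfsg.Agent.LsF.all_eq, Cfsg.Agent.LsF.range_eq])); decide +kernel)

theorem lt_F4 : ∀ f ∈ F4, f < 275 := by decide +kernel

theorem lt_cyc : ∀ f ∈ cyc (lk tc) 5 2, f < 275 := by decide +kernel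

private noncomputable def _root_.Cfsg.Agent.LsF.fc2ed2a_13 : {f // @Cfsg.Agent.H904.McLCent.nodupB = f} := ⟨_, by first | (delta Cfsg.Agent.H904.McLCent.nodupB List.brecOn List.brecOn.go Cfsg.Agent.H904.McLCent.nodupB._f; rewrite [Cfsg.Agent.LsF.and_eq, Cfsg.Agent.LsF.not_eq, Cfsg.Agent.LsF.all_eq]; (try delta Cfsg.Agent.H904.McLCent.nodupB.match_1); (try delta List.casesOn); first | dsimp -zeta only | exact rfl) | exact rfl⟩
private noncomputable def _root_.Cfsg.Agent.LsF.fc2ed2a_14 : {f // @Cfsg.Agent.H686.Odd.McL.F4 = f} := ⟨_, by first | (delta Cfsg.Agent.H686.Odd.McL.F4; rewrite [Cfsg.Agent.LsF.fc2ed2a_12.2, Cfsg.Agent.LsF.fc2ed2a_9.2, Cfsg.Agent.LsF.lappend_pat]; exact rfl) | exact rfl⟩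
theorem nd : nodupB ((List.range 275).map (code (bitM 275 adjM) (lk tc) F4 5)) = true := by ((try (rewrite [Cfsg.Agent.LsF.fc2ed2a_13.2, Cfsg.Agent.LsF.fc2ed2a_10.2, Cfsg.Agent.LsF.fc2ed2a_14.2, Cfsg.Agent.LsF.map_eq, Cfsg.Agent.LsF.range_eq])); decide +kernel)

/-- **`|C(c)| ≤ 1500`.** -/
theorem card_c_le : Nat.card (centralizer ({c} : Set G1)) ≤ 1500 := by
  have : Finite G1 := Nat.finite_of_card_ne_zero (by rw [card_G1]; norm_num)
  have S := sys
  refine card_cent_le2 S (code (bitM 275 adjM) (lk tc) [] 5) (code (bitM 275 adjM) (lk tc) (cyc (lk tc) 5 2) 5)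
    (fun g hg i => S.code_eq hg (F := []) (fun i hi => absurd hi (by simp)) (by simp) 5 i) 2 38 (m := 125) (m' := 12) u1
    ?_ u2 ?_
  · intro g hg h0 i
    exact S.code_eq hg (S.fix_cyc hg 5 2 (by norm_num) h0) lt_cyc 5 i
  · intro g hg h0 h1
    have f2 : _root_.Cfsg.Agent.H904.CentChk.Fix ψ g F2 := (S.fix_cyc hg 5 2 (by norm_num) h0).append (S.fix_cyc hg 5 38 (by norm_num) h1)
    have l2 : ∀ f ∈ F2, f < 275 := fun f hf => lt_F4 f (by
      unfold F4 F3
      exact List.mem_append_left _ (List.mem_append_left _ hf))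
    have l3 : ∀ f ∈ F3, f < 275 := fun f hf => lt_F4 f (by
      unfold F4
      exact List.mem_append_left _ hf)
    have f3 : _root_.Cfsg.Agent.H904.CentChk.Fix ψ g F3 := f2.append (S.fix_cyc hg 5 1 (by norm_num) (S.fix_of_unique hg f2 l2 5 1 (by norm_num) u3))
    have f4 : _root_.Cfsg.Agent.H904.CentChk.Fix ψ g F4 := f3.append (S.fix_cyc hg 5 0 (by norm_num) (S.fix_of_unique hg f3 l3 5 0 (by norm_num) u4))
    exact S.eq_one hg f4 lt_F4 5 rfl (nodup_of_nodupB nd)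

end Cfsg.Agent.H686.Odd.McL
end

-- part: H686/Odd/McLFive
section
/-!
# The row of `McL`, `p` odd: the elements of order five (helper686)

* `exists_abc` : the elements of `⟨a, b⟩` are `a ^ i b ^ j c ^ k`;
* `five_cases` : an element `y` of order 5 has `|C(y)| ≤ 50` or is conjugate to a power of `c`;
* `three_even` : the elements of order `3 ^ k` commuting with `c` commute with an involution;
* `exists_big` : a subgroup of order 1000.
-/

set_option autoImplicit false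
set_option maxRecDepth 100000

namespace Cfsg.Agent.H686.Odd.McL

open Subgroup Equiv Cfsg.Agent.SporadicA.PermTab Cfsg.Agent.H904.McLCent Cfsg.Agent.McLType.X275
  Cfsg.Agent.McLType.Gens Cfsg.Agent.McLType.Model
open scoped commutatorElement Pointwise

universe u

instance finG1 : Finite G1 := Nat.finite_of_card_ne_zero (by rw [card_G1]; norm_num)

/-! ### general facts -/

theorem card_cent_conj {G : Type*} [Group G] (g t : G) :
    Nat.card (centralizer ({g * t * g⁻¹} : Set G)) = Nat.card (centralizer ({t} : Set G)) := by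
  refine Nat.card_congr ⟨fun x => ⟨g⁻¹ * x * g, ?_⟩, fun x => ⟨g * x * g⁻¹, ?_⟩, fun x => ?_, fun x => ?_⟩
  · have h := mem_centralizer_singleton_iff.1 x.2
    rw [mem_centralizer_singleton_iff]
    calc g⁻¹ * x * g * t = g⁻¹ * (x * (g * t * g⁻¹)) * g := by group
      _ = g⁻¹ * ((g * t * g⁻¹) * x) * g := by rw [h]
      _ = t * (g⁻¹ * x * g) := by group
  · have h := mem_centralizer_singleton_iff.1 x.2
    rw [mem_centralizer_singleton_iff]
    calc g * x * g⁻¹ * (g * t * g⁻¹) = g * (x * t) * g⁻¹ := by group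
      _ = g * (t * x) * g⁻¹ := by rw [h]
      _ = g * t * g⁻¹ * (g * x * g⁻¹) := by group
  · apply Subtype.ext
    simp [mul_assoc]
  · apply Subtype.ext
    simp [mul_assoc]

theorem cent_le_of_mem {G : Type*} [Group G] {x y : G} (h : y ∈ zpowers x) :
    centralizer ({x} : Set G) ≤ centralizer ({y} : Set G) := by
  intro g hg
  obtain ⟨k, hk⟩ := mem_zpowers_iff.1 h
  rw [mem_centralizer_singleton_iff] at hg ⊢
  rw [← hk]
  exact ((show Commute g x from hg).zpow_right k).eq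

theorem mem_zpowers_of_prime {G : Type*} [Group G] [Finite G] {q : ℕ} (hq : q.Prime) {x y : G} (hx : orderOf x = q)
    (hy : y ≠ 1) (h : y ∈ zpowers x) : x ∈ zpowers y := by
  have h1 : zpowers y ≤ zpowers x := by rwa [zpowers_le]
  have h2 := Subgroup.card_dvd_of_le h1
  rw [Nat.card_zpowers, Nat.card_zpowers, hx] at h2
  have h3 : orderOf y = q := by
    rcases (Nat.dvd_prime hq).1 h2 with h3 | h3
    · exact absurd (orderOf_eq_one_iff.1 h3) hy
    · exact h3
  have h4 : zpowers y = zpowers x := Subgroup.eq_of_le_of_card_ge h1 (by rw [Nat.card_zpowers, Nat.card_zpowers, hx, h3])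
  rw [h4]
  exact mem_zpowers x

/-- `g y g⁻¹ ∈ ⟨x⟩`, both of order `q` -/
theorem card_cent_of_mem {G : Type*} [Group G] [Finite G] {q : ℕ} (hq : q.Prime) {x y g : G} (hx : orderOf x = q)
    (hy : y ≠ 1) (h : g * y * g⁻¹ ∈ zpowers x) :
    Nat.card (centralizer ({y} : Set G)) = Nat.card (centralizer ({x} : Set G)) := by
  have hy1 : g * y * g⁻¹ ≠ 1 := by
    intro h1
    apply hy
    have : y = g⁻¹ * (g * y * g⁻¹) * g := by group
    rw [this, h1]
    group
  rw [← card_cent_conj g y, le_antisymm (cent_le_of_mem h) (cent_le_of_mem (mem_zpowers_of_prime hq hx hy1 h))]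

/-! ### the group `⟨a, b⟩` -/

theorem ab : a * b = c * (b * a) := by
  rw [c, commutatorElement_def]; group

theorem ba (m l : ℤ) : b ^ l * a ^ m = a ^ m * (b ^ l * c ^ (-(m * l))) := by
  have h1 := Cfsg.Agent.H58.Crit.zpow_swap ab ca cb m l
  have h2 : b ^ l * a ^ m = c ^ (-(m * l)) * (a ^ m * b ^ l) := by
    rw [h1, zpow_neg]; group
  have e1 : c ^ (-(m * l)) * a ^ m = a ^ m * c ^ (-(m * l)) := ((show Commute c a from ca).zpow_zpow _ _).eq
  have e2 : c ^ (-(m * l)) * b ^ l = b ^ l * c ^ (-(m * l)) := ((show Commute c b from cb).zpow_zpow _ _).eq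
  rw [h2, ← mul_assoc, e1, mul_assoc, e2]

theorem abc_mul (i j k i' j' k' : ℤ) : a ^ i * (b ^ j * c ^ k) * (a ^ i' * (b ^ j' * c ^ k')) =
    a ^ (i + i') * (b ^ (j + j') * c ^ (k + k' - i' * j)) := by
  have e1 : c ^ k * a ^ i' = a ^ i' * c ^ k := ((show Commute c a from ca).zpow_zpow _ _).eq
  have e2 : c ^ (-(i' * j) + k) * b ^ j' = b ^ j' * c ^ (-(i' * j) + k) := ((show Commute c b from cb).zpow_zpow _ _).eq
  calc a ^ i * (b ^ j * c ^ k) * (a ^ i' * (b ^ j' * c ^ k')) = a ^ i * (b ^ j * (c ^ k * a ^ i')) * b ^ j' * c ^ k' := by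
        group
    _ = a ^ i * (b ^ j * a ^ i') * c ^ k * b ^ j' * c ^ k' := by rw [e1]; group
    _ = a ^ i * a ^ i' * b ^ j * (c ^ (-(i' * j) + k) * b ^ j') * c ^ k' := by rw [ba, zpow_add]; group
    _ = _ := by
      rw [e2, zpow_add a, zpow_add b, show k + k' - i' * j = (-(i' * j) + k) + k' by ring, zpow_add c _ k']
      group

/-- the elements `a ^ i b ^ j c ^ k` -/
def H : Subgroup G1 where
  carrier := {g | ∃ i j k : ℤ, g = a ^ i * (b ^ j * c ^ k)}
  one_mem' := ⟨0, 0, 0, by simp⟩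
  mul_mem' := by
    rintro _ _ ⟨i, j, k, rfl⟩ ⟨i', j', k', rfl⟩
    exact ⟨_, _, _, abc_mul i j k i' j' k'⟩
  inv_mem' := by
    rintro _ ⟨i, j, k, rfl⟩
    refine ⟨-i, -j, -k - i * j, ?_⟩
    rw [inv_eq_iff_mul_eq_one, abc_mul]
    have : k + (-k - i * j) - -i * j = 0 := by ring
    rw [this, add_neg_cancel, add_neg_cancel, zpow_zero, zpow_zero, zpow_zero, mul_one, mul_one]

theorem exists_abc {g : G1} (hg : g ∈ (_root_.Subgroup.closure {a, b} : Subgroup G1)) : ∃ i j k : ℤ, g = a ^ i * (b ^ j * c ^ k) := by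
  have h : (_root_.Subgroup.closure {a, b} : Subgroup G1) ≤ H := by
    rw [closure_le]
    rintro x (rfl | rfl)
    · exact ⟨1, 0, 0, by simp only [_root_.zpow_ofNat, _root_.pow_one, _root_.pow_zero, _root_.mul_one]⟩
    · exact ⟨0, 1, 0, by simp⟩
  exact h hg

theorem isPGroup : IsPGroup 5 (_root_.Subgroup.closure {a, b} : Subgroup G1) := by
  have : Fact (Nat.Prime 5) := ⟨Nat.prime_five⟩
  exact Cfsg.Agent.H51.Tools.isPGroup_closure a_pow b_pow c_pow ca cb

theorem card_ab : Nat.card (_root_.Subgroup.closure {a, b} : Subgroup G1) = 125 := by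
  have : Fact (Nat.Prime 5) := ⟨Nat.prime_five⟩
  have h1 := Cfsg.Agent.H51.Tools.cube_dvd_card Nat.prime_five a_pow b_pow ca cb c_ne
  obtain ⟨k, hk⟩ := isPGroup.exists_card_eq
  have h2 := (_root_.Subgroup.closure {a, b} : Subgroup G1).card_subgroup_dvd_card
  rw [hk] at h1 h2
  rw [card_G1] at h2
  have h3 : 3 ≤ k := (Nat.pow_dvd_pow_iff_le_right (by norm_num)).1 h1
  have h4 : k < 4 := by
    by_contra h
    have := (pow_dvd_pow 5 (not_lt.1 h)).trans h2
    norm_num at this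
  have : k = 3 := by omega
  rw [hk, this]
  norm_num

theorem zpow_mod5 {g : G1} (h : g ^ 5 = 1) (i : ℤ) : g ^ i = g ^ (i % 5).toNat := by
  rw [← zpow_natCast, Int.toNat_of_nonneg (Int.emod_nonneg _ (by norm_num))]
  conv_lhs => rw [← Int.emod_add_mul_ediv i 5]
  rw [zpow_add, zpow_mul, show g ^ (5 : ℤ) = 1 from by exact_mod_cast h, one_zpow, mul_one]

theorem fix_pow {i j : ℤ} (h : ¬ ((5 : ℤ) ∣ i ∧ (5 : ℤ) ∣ j)) : ∃ k : Fin 275, ψ (a ^ i * b ^ j) k = k := by
  rw [zpow_mod5 a_pow i, zpow_mod5 b_pow j]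
  exact exists_fix (by omega) (by omega) (by omega)

/-- the noncentral elements have fixed points -/
theorem fix_abc {i j k : ℤ} (h : ¬ ((5 : ℤ) ∣ i ∧ (5 : ℤ) ∣ j)) : ∃ l : Fin 275, ψ (a ^ i * (b ^ j * c ^ k)) l = l := by
  obtain ⟨l, hl⟩ := fix_pow h
  -- `g` conjugates `a ^ i b ^ j` to `a ^ i b ^ j c ^ k`
  obtain ⟨g, hg⟩ : ∃ g : G1, g * (a ^ i * b ^ j) * g⁻¹ = a ^ i * (b ^ j * c ^ k) := by
    by_cases hj : (5 : ℤ) ∣ j
    · have hi : ¬ (5 : ℤ) ∣ i := fun hi => h ⟨hi, hj⟩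
      obtain ⟨u, v, huv⟩ : IsCoprime i 5 := by
        rw [Int.isCoprime_iff_gcd_eq_one, Int.gcd_comm]
        exact (Int.prime_iff_natAbs_prime.2 (by norm_num) : Prime (5 : ℤ)).coprime_iff_not_dvd.2 hi |> Int.isCoprime_iff_gcd_eq_one.1
      refine ⟨b ^ (-k * u), ?_⟩
      have h1 : b ^ (-k * u) * a ^ i = a ^ i * (b ^ (-k * u) * c ^ (-(i * (-k * u)))) := ba i (-k * u)
      have h2 : c ^ (-(i * (-k * u))) = c ^ k := by
        rw [show -(i * (-k * u)) = k + 5 * (-k * v) by linear_combination k * huv, zpow_add, zpow_mul,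
          show c ^ (5 : ℤ) = 1 from by exact_mod_cast c_pow, one_zpow, mul_one]
      have e1 : c ^ k * b ^ j = b ^ j * c ^ k := ((show Commute c b from cb).zpow_zpow _ _).eq
      have e2 : c ^ k * (b ^ (-k * u))⁻¹ = (b ^ (-k * u))⁻¹ * c ^ k := by
        rw [← zpow_neg]; exact ((show Commute c b from cb).zpow_zpow _ _).eq
      calc b ^ (-k * u) * (a ^ i * b ^ j) * (b ^ (-k * u))⁻¹ = (b ^ (-k * u) * a ^ i) * b ^ j * (b ^ (-k * u))⁻¹ := by group
        _ = a ^ i * b ^ (-k * u) * (c ^ k * b ^ j) * (b ^ (-k * u))⁻¹ := by rw [h1, h2]; group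
        _ = a ^ i * b ^ (-k * u) * b ^ j * (c ^ k * (b ^ (-k * u))⁻¹) := by rw [e1]; group
        _ = _ := by rw [e2]; group
    · obtain ⟨u, v, huv⟩ : IsCoprime j 5 := by
        rw [Int.isCoprime_iff_gcd_eq_one, Int.gcd_comm]
        exact (Int.prime_iff_natAbs_prime.2 (by norm_num) : Prime (5 : ℤ)).coprime_iff_not_dvd.2 hj |> Int.isCoprime_iff_gcd_eq_one.1
      refine ⟨a ^ (k * u), ?_⟩
      have h1 := ba (k * u) j
      have h2 : c ^ (-(k * u * j)) = c ^ (-k) := by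
        rw [show -(k * u * j) = -k + 5 * (k * v) by linear_combination (-k) * huv, zpow_add, zpow_mul,
          show c ^ (5 : ℤ) = 1 from by exact_mod_cast c_pow, one_zpow, mul_one]
      rw [h2] at h1
      have h3 : a ^ (k * u) * b ^ j = b ^ j * a ^ (k * u) * c ^ k := by
        rw [h1]
        have e1 : c ^ (-k) * c ^ k = 1 := by rw [← zpow_add]; simp
        calc a ^ (k * u) * b ^ j = a ^ (k * u) * (b ^ j * (c ^ (-k) * c ^ k)) := by rw [e1, mul_one]
          _ = _ := by group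
      have e2 : c ^ k * (a ^ (k * u))⁻¹ = (a ^ (k * u))⁻¹ * c ^ k := by
        rw [← zpow_neg]; exact ((show Commute c a from ca).zpow_zpow _ _).eq
      calc a ^ (k * u) * (a ^ i * b ^ j) * (a ^ (k * u))⁻¹ = a ^ i * (a ^ (k * u) * b ^ j) * (a ^ (k * u))⁻¹ := by group
        _ = a ^ i * b ^ j * a ^ (k * u) * (c ^ k * (a ^ (k * u))⁻¹) := by rw [h3]; group
        _ = _ := by rw [e2]; group
  refine ⟨ψ g l, ?_⟩
  rw [← hg, map_mul, map_mul, Perm.mul_apply, Perm.mul_apply, map_inv]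
  have h1 : (ψ g)⁻¹ (ψ g l) = l := by rw [Perm.inv_eq_iff_eq]
  rw [h1, hl]

/-! ### the elements with fixed points -/

/-- the stabilizer of the point 0 -/
noncomputable def U : Subgroup G1 := (MulAction.stabilizer (Perm (Fin 275)) (0 : Fin 275)).comap ψ

theorem mem_U {g : G1} : g ∈ U ↔ ψ g 0 = 0 := Iff.rfl

theorem index_U : U.index = 275 := by
  let _ : MulAction G1 (Fin 275) := MulAction.compHom (Fin 275) ψ
  have h1 : U = MulAction.stabilizer G1 (0 : Fin 275) := rfl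
  rw [h1, MulAction.index_stabilizer]
  have h2 : MulAction.orbit G1 (0 : Fin 275) = Set.univ := by
    rw [Set.eq_univ_iff_forall]
    intro i
    obtain ⟨g, hg⟩ := Cfsg.Agent.H805.NilSp.McL.transitive 0 i
    exact ⟨g, hg⟩
  rw [h2, Set.ncard_univ, Nat.card_eq_fintype_card, Fintype.card_fin]

theorem card_U : Nat.card U = 3265920 := by
  have h := U.card_mul_index
  rw [index_U, card_G1] at h
  omega

/-- **The elements of order 5 with fixed points have a centralizer of order at most 50.** -/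
theorem type_b {y : G1} (hy : orderOf y = 5) {i : Fin 275} (hi : ψ y i = i) :
    Nat.card (centralizer ({y} : Set G1)) ≤ 50 := by
  obtain ⟨x, -, hx, -⟩ := Cfsg.Agent.H669.RO.McL.exists_five rep
  have hox : orderOf x = 5 := rep.orderOf_eq hx (by norm_num) (by decide +kernel) 1 (by decide +kernel)
  have hle := Cfsg.Agent.H669.RO.McL.card_le rep hx
  have hx0 : x ∈ U := mem_U.2 (Fin.ext ((hx 0).trans (by decide +kernel)))
  obtain ⟨g, hg⟩ := Cfsg.Agent.H805.NilSp.McL.transitive i 0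
  have hy0 : g * y * g⁻¹ ∈ U := by
    rw [mem_U, map_mul, map_mul, Perm.mul_apply, Perm.mul_apply, map_inv]
    have : (ψ g)⁻¹ 0 = i := by rw [Perm.inv_eq_iff_eq, hg]
    rw [this, hi, hg]
  have hoy : orderOf (g * y * g⁻¹) = 5 := by
    rw [← hy]; exact (MulAut.conj g).orderOf_eq y
  obtain ⟨u, hu⟩ := Cfsg.Agent.H1.RealTool.exists_conj_mem_zpowers (G := U) Nat.prime_five (by rw [card_U]; norm_num)
    (x := ⟨x, hx0⟩) (a := ⟨g * y * g⁻¹, hy0⟩) (by rw [Subgroup.orderOf_mk, hox]) (by rw [Subgroup.orderOf_mk, hoy])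
  have hu' : (u : G1) * (g * y * g⁻¹) * (u : G1)⁻¹ ∈ zpowers x := by
    obtain ⟨k, hk⟩ := mem_zpowers_iff.1 hu
    exact mem_zpowers_iff.2 ⟨k, congrArg Subtype.val hk⟩
  have hy1 : g * y * g⁻¹ ≠ 1 := by
    intro h
    rw [h, orderOf_one] at hoy
    norm_num at hoy
  rw [← card_cent_conj g y, card_cent_of_mem Nat.prime_five hox hy1 hu']
  exact hle

theorem order_c : orderOf c = 5 := by
  have : Fact (Nat.Prime 5) := ⟨Nat.prime_five⟩
  exact orderOf_eq_prime c_pow c_ne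

/-- **The elements of order 5.** -/
theorem five_cases {y : G1} (hy : orderOf y = 5) :
    Nat.card (centralizer ({y} : Set G1)) ≤ 50 ∨ ∃ g : G1, g * y * g⁻¹ ∈ zpowers c := by
  have : Fact (Nat.Prime 5) := ⟨Nat.prime_five⟩
  have h1 : IsPGroup 5 (zpowers y) := IsPGroup.of_card (n := 1) (by rw [Nat.card_zpowers, hy, pow_one])
  obtain ⟨Q, hQ⟩ := h1.exists_le_sylow
  have h125 : (898128000 : ℕ).factorization 5 = 3 := by
    rw [show (898128000 : ℕ) = 5 ^ 3 * 7185024 by norm_num, Nat.factorization_mul (by norm_num) (by norm_num),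
      Nat.Prime.factorization_pow Nat.prime_five]
    simp [Nat.factorization_eq_zero_of_not_dvd]
  let P : Sylow 5 G1 := Sylow.ofCard (_root_.Subgroup.closure {a, b}) (by rw [card_ab, card_G1, h125]; norm_num)
  obtain ⟨g, hg⟩ := MulAction.exists_smul_eq G1 Q P
  have h2 : g * y * g⁻¹ ∈ (closure {a, b} : Subgroup G1) := by
    have h3 : ((g • Q : Sylow 5 G1) : Subgroup G1) = _root_.Subgroup.closure {a, b} := by rw [hg]; rfl
    rw [← h3, Sylow.coe_subgroup_smul]
    exact (Subgroup.smul_mem_pointwise_smul y (MulAut.conj g) (Q : Subgroup G1) (hQ (mem_zpowers y)) :)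
  obtain ⟨i, j, k, hk⟩ := exists_abc h2
  by_cases hij : (5 : ℤ) ∣ i ∧ (5 : ℤ) ∣ j
  · right
    refine ⟨g, ?_⟩
    obtain ⟨⟨u, rfl⟩, ⟨v, rfl⟩⟩ := hij
    rw [hk, zpow_mul, zpow_mul, show a ^ (5 : ℤ) = 1 from by exact_mod_cast a_pow,
      show b ^ (5 : ℤ) = 1 from by exact_mod_cast b_pow, one_zpow, one_zpow, one_mul, one_mul]
    exact zpow_mem (mem_zpowers c) k
  · left
    obtain ⟨l, hl⟩ := fix_abc (k := k) hij
    rw [← hk] at hl
    rw [← card_cent_conj g y]
    exact type_b (by rw [← hy]; exact (MulAut.conj g).orderOf_eq y) hl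

end Cfsg.Agent.H686.Odd.McL
end

private theorem dce_b2265e25a24c : _root_.True := by
  try have : _root_.True := by simp only [_root_.Cfsg.Agent.H686.Odd.McL.a.eq_1]
  try have : _root_.True := by simp only [_root_.Cfsg.Agent.H686.Odd.McL.s.eq_1]
  try have : _root_.True := by simp only [_root_.Cfsg.Agent.H686.Odd.McL.c.eq_1]
  try have : _root_.True := by simp only [_root_.Cfsg.Agent.H686.Odd.McL.b.eq_1]
  try have : _root_.True := by simp only [_root_.Cfsg.Agent.H686.Odd.McL.n.eq_1]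
  exact _root_.True.intro
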